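import Cfsg.Agent.H802.TE.Defs

/-!
# S5261, part E: (M3b), (M3c) (helper752)
-/

set_option autoImplicit false
set_option linter.unusedSectionVars false

namespace Cfsg.Agent.H752.TE

open Cfsg Cfsg.FusionSystem Cfsg.Agent.H756.PU Cfsg.Agent.H802.TE
open Cfsg.Agent.H765.D3 Cfsg.Agent.H765.D3.Sy
open Cfsg.Agent.Hex.Defs (sh cr nm tr)
open scoped commutatorElement

universe u

section gen

variable {Ω : Type*} [Group Ω] {E : Subgroup Ω}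

/-- two automorphisms which commute on `E / Φ` -/
theorem comm_mod {Φ : Subgroup Ω} (a b : MulAut E)
    (h : ∀ e : E, ((a (b e) : E) : Ω) * ((b (a e) : E) : Ω)⁻¹ ∈ Φ) (e : E) :
    (((a * b * a⁻¹ * b⁻¹) e : E) : Ω) * (e : Ω)⁻¹ ∈ Φ := by
  have h1 := h (a⁻¹ (b⁻¹ e))
  rwa [MulAut.apply_inv_self, MulAut.apply_inv_self] at h1

/-- the key computation of (M3b): `Z ≤ E`, `a`, `b` normalize `E` with `[a, E], [b, E] ≤ Z`, and `[a, g Z] ≤ Φ`, `[b, g⁻¹ Z] ≤ Φ` -/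
theorem comm_key {Φ Z : Subgroup Ω} (hΦE : Φ ≤ E) (hEE : Com E E Φ) {g : MulAut E}
    (hg : ∀ e : E, (e : Ω) ∈ Φ → ((g e : E) : Ω) ∈ Φ) {a b : Ω} {α β : MulAut E} (hα : IsC a α) (hβ : IsC b β)
    (hZ : Z ≤ E) (ha : ∀ e ∈ E, a * e * a⁻¹ * e⁻¹ ∈ Z) (hb : ∀ e ∈ E, b * e * b⁻¹ * e⁻¹ ∈ Z)
    (h1 : ∀ z : E, (z : Ω) ∈ Z → a * (g z : E) * a⁻¹ * ((g z : E) : Ω)⁻¹ ∈ Φ)
    (h2 : ∀ z : E, (z : Ω) ∈ Z → b * (g⁻¹ z : E) * b⁻¹ * ((g⁻¹ z : E) : Ω)⁻¹ ∈ Φ) (e : E) :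
    ((α ((g * β * g⁻¹) e) : E) : Ω) * (((g * β * g⁻¹) (α e) : E) : Ω)⁻¹ ∈ Φ := by
  -- `h = [b, g⁻¹ e]`, `k = g h`
  set h : E := ⟨b * (g⁻¹ e : E) * b⁻¹ * ((g⁻¹ e : E) : Ω)⁻¹, hZ (hb _ (g⁻¹ e).2)⟩ with hh
  have hhZ : (h : Ω) ∈ Z := hb _ (g⁻¹ e).2
  have e1 : β (g⁻¹ e) = h * g⁻¹ e := by
    refine Subtype.ext ?_
    rw [hβ, Subgroup.coe_mul, hh]
    simp only [inv_mul_cancel_right]
  have e2 : (g * β * g⁻¹) e = g h * e := by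
    rw [MulAut.mul_apply, MulAut.mul_apply, e1, map_mul, MulAut.apply_inv_self]
  -- `h' = [a, e]`
  set h' : E := ⟨a * (e : Ω) * a⁻¹ * (e : Ω)⁻¹, hZ (ha _ e.2)⟩ with hh'
  have hhZ' : (h' : Ω) ∈ Z := ha _ e.2
  have e3 : α e = h' * e := by
    refine Subtype.ext ?_
    rw [hα, Subgroup.coe_mul, hh']
    simp only [inv_mul_cancel_right]
  -- `β (g⁻¹ h') = l * g⁻¹ h'`, `l ∈ Φ`
  have hl := h2 h' hhZ'
  set l : E := ⟨b * (g⁻¹ h' : E) * b⁻¹ * ((g⁻¹ h' : E) : Ω)⁻¹, hΦE hl⟩ with hll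
  have e4 : β (g⁻¹ h') = l * g⁻¹ h' := by
    refine Subtype.ext ?_
    rw [hβ, Subgroup.coe_mul, hll]
    simp only [inv_mul_cancel_right]
  have e5 : (g * β * g⁻¹) (α e) = g l * h' * (g h * e) := by
    rw [e3, map_mul, e2]
    rw [MulAut.mul_apply, MulAut.mul_apply, e4, map_mul, MulAut.apply_inv_self]
  have e6 : ((α ((g * β * g⁻¹) e) : E) : Ω) = (a * (g h : E) * a⁻¹ * ((g h : E) : Ω)⁻¹) * (g h : E) * (h' * e) := by
    rw [e2, map_mul, Subgroup.coe_mul, e3, Subgroup.coe_mul, hα]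
    group
  have hgl : ((g l : E) : Ω) ∈ Φ := hg l hl
  have hm := h1 h hhZ
  rw [e6, e5]
  simp only [Subgroup.coe_mul, mul_inv_rev]
  set m := a * (g h : E) * a⁻¹ * ((g h : E) : Ω)⁻¹ with hmm
  have hc : ((g h : E) : Ω) * (h' : Ω) * ((g h : E) : Ω)⁻¹ * (h' : Ω)⁻¹ ∈ Φ := hEE _ (g h).2 _ h'.2
  have e7 : m * ((g h : E) : Ω) * ((h' : Ω) * (e : Ω)) * (((e : Ω)⁻¹ * ((g h : E) : Ω)⁻¹) * ((h' : Ω)⁻¹ * ((g l : E) : Ω)⁻¹)) =
      m * (((g h : E) : Ω) * (h' : Ω) * ((g h : E) : Ω)⁻¹ * (h' : Ω)⁻¹) * ((g l : E) : Ω)⁻¹ := by group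
  rw [e7]
  exact Φ.mul_mem (Φ.mul_mem hm hc) (Φ.inv_mem hgl)

end gen

section sy

variable {F K : Type u} [Field F] [Field K] [Algebra F K] {φ : K ≃ₐ[F] K} [Cub φ]

theorem exists_reg {E : Subgroup (Sy φ)} (hm : Mixed E) : ∃ e ∈ E, e.x1 ≠ 0 ∧ e.x6 ≠ 0 := by
  obtain ⟨h1, h2⟩ := hm
  obtain ⟨x, hx, hx1⟩ := SetLike.not_le_iff_exists.1 h1
  obtain ⟨y, hy, hy6⟩ := SetLike.not_le_iff_exists.1 h2
  rw [mem_Q1] at hx1
  rw [mem_Q2] at hy6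
  by_cases hx6 : x.x6 = 0
  · by_cases hy1 : y.x1 = 0
    · exact ⟨x * y, E.mul_mem hx hy, by rw [mul_x1, hy1, add_zero]; exact hx1, by rw [mul_x6, hx6, zero_add]; exact hy6⟩
    · exact ⟨y, hy, hy1, hy6⟩
  · exact ⟨x, hx, hx1, hx6⟩

theorem Z4_le_norm {E : Subgroup (Sy φ)} (hz : Z3 φ ≤ E) : Z4 φ ≤ normalizerIn ⊤ E := by
  intro z hzz
  refine Subgroup.mem_inf.2 ⟨Subgroup.mem_top _, ?_⟩
  have h1 : ∀ w ∈ Z4 φ, ∀ e ∈ E, w * e * w⁻¹ ∈ E := by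
    intro w hw e he
    have h2 : w * e * w⁻¹ = ⁅e, w⁆⁻¹ * e := by rw [commutatorElement_inv, commutatorElement_def, inv_mul_cancel_right]
    rw [h2]
    exact E.mul_mem (E.inv_mem (hz (comm_mem_Z3 hw))) he
  rw [Subgroup.mem_normalizer_iff]
  intro e
  refine ⟨h1 z hzz e, fun h => ?_⟩
  have h2 := h1 z⁻¹ ((Z4 φ).inv_mem hzz) _ h
  rwa [inv_inv, ← mul_assoc, ← mul_assoc, inv_mul_cancel, one_mul, inv_mul_cancel_right] at h2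

theorem comZ4 {E : Subgroup (Sy φ)} {z e : Sy φ} (hz : z ∈ Z4 φ) : z * e * z⁻¹ * e⁻¹ ∈ Z3 φ := by
  have h2 : z * e * z⁻¹ * e⁻¹ = ⁅e, z⁆⁻¹ := by rw [commutatorElement_inv, commutatorElement_def]
  rw [h2]
  exact (Z3 φ).inv_mem (comm_mem_Z3 hz)

end sy

/-- (M3b) -/
theorem stM3b (hphi : StPhi.{u}) (hcm : StCm.{u}) (m3a : StM3a.{u}) : StM3b.{u} := by
  intro F K _ _ _ _ _ φ _ _ E Γ hE hm hz3 hz4
  haveI : Finite E := Finite.of_injective (fun e : E => (e : Sy φ)) Subtype.val_injective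
  have hpE : IsPGroup 2 E := by
    have h1 := hE.pgr.of_injective (Subgroup.inclusion hE.E_le) (Subgroup.inclusion_injective _)
    exact h1
  obtain ⟨hΦE, hEE, -, -, hinv, -⟩ := hphi E 2 Nat.prime_two inferInstance hpE
  have hZ1E : Z1 φ ≤ E := (Z1_le_Z2.trans Z2_le_Z3).trans hz3
  -- the stabilizer of `Z1`
  let Γ0 : Subgroup (MulAut E) :=
    { carrier := {γ | ∀ e : E, (e : Sy φ) ∈ Z1 φ ↔ ((γ e : E) : Sy φ) ∈ Z1 φ}
      one_mem' := fun e => Iff.rfl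
      mul_mem' := fun {γ δ} hγ hδ e => (hδ e).trans (hγ (δ e))
      inv_mem' := fun {γ} hγ e => by
        have h := hγ (γ⁻¹ e)
        rw [MulAut.apply_inv_self] at h
        exact h.symm }
  have hfin : ∀ γ : MulAut E, (∀ e : E, (e : Sy φ) ∈ Z1 φ → ((γ e : E) : Sy φ) ∈ Z1 φ) → γ ∈ Γ0 := by
    intro γ h e
    refine ⟨h e, fun he => ?_⟩
    let f : {e : E // (e : Sy φ) ∈ Z1 φ} → {e : E // (e : Sy φ) ∈ Z1 φ} := fun e => ⟨γ e.1, h _ e.2⟩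
    have hf : Function.Injective f := fun x y hxy => Subtype.ext (γ.injective (congrArg Subtype.val hxy))
    obtain ⟨y, hy⟩ := (Finite.injective_iff_surjective.1 hf) ⟨γ e, he⟩
    have h1 : γ y.1 = γ e := congrArg Subtype.val hy
    rw [← γ.injective h1]
    exact y.2
  have key : Γ ≤ Γ0 := by
    refine hcm hE Γ0 (Z4 φ) (Z4_le_norm hz3) hz4 ?_
    intro g hg hg0 a ha b hb e α β hα hβ
    refine comm_mod α (g * β * g⁻¹) ?_ e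
    have hi : g⁻¹ ∈ Γ := Γ.inv_mem hg
    have hi0 : g⁻¹ ∉ Γ0 := fun h => hg0 (by have := Γ0.inv_mem h; rwa [inv_inv] at this)
    refine comm_key hΦE hEE (fun e he => (hinv Γ).2 g hg e he) hα hβ hz3 (fun e _ => comZ4 (E := E) ha)
      (fun e _ => comZ4 (E := E) hb) ?_ ?_
    · intro z hz
      by_contra hcon
      exact hg0 (hfin g (m3a hE hm hz3 g hg z hz a ha hcon).2.2.2)
    · intro z hz
      by_contra hcon
      exact hi0 (hfin g⁻¹ (m3a hE hm hz3 g⁻¹ hi z hz b hb hcon).2.2.2)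
  exact ⟨hZ1E, fun γ hγ e he => (key hγ e).1 he⟩

/-- (M3c) -/
theorem stM3c (hhull : StHull.{u}) (m3a : StM3a.{u}) (m3b : StM3b.{u}) : StM3c.{u} := by
  intro F K _ _ _ _ _ φ _ _ E Γ hE hm hz3 hz4
  have hinv := m3b hE hm hz3 hz4
  have h2K : (2 : K) = 0 := CharTwo.two_eq_zero
  have h2F : (2 : F) = 0 := by
    apply (algebraMap F K).injective
    rw [map_ofNat, map_zero, h2K]
  obtain ⟨γ, hγ, g, hg, z, hz, hcon⟩ := hhull hE (Z4 φ) (Z3 φ) le_top hz3 (fun z hz e _ => comZ4 (E := E) hz) hz4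
  obtain ⟨hy6, hy1, hyF, -⟩ := m3a hE hm hz3 γ hγ g hg z hz hcon
  set y : Sy φ := ((γ g : E) : Sy φ) with hydef
  obtain ⟨e, he, he1, he6⟩ := exists_reg hm
  refine ⟨y.x1, hy1, ?_, y, (γ g).2, rfl, hy6⟩
  intro x hx
  obtain ⟨s, hs⟩ := hyF x hx
  by_cases hs0 : s = 0
  · left; rw [hs, hs0, zero_smul]
  right
  by_contra hne
  have hs1 : s ≠ 1 := fun h => hne (by rw [hs, h, one_smul])
  -- `Z2(E) ≤ Z3`
  have hZ2 : ∀ w ∈ E, (∀ e' ∈ E, ⁅e', w⁆ ∈ Z1 φ) → w.x5 = 0 := by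
    intro w hw hwc
    have hwc' : ∀ e' ∈ E, ⁅w, e'⁆ ∈ Z1 φ := fun e' he' => by
      rw [← commutatorElement_inv]; exact (Z1 φ).inv_mem (hwc e' he')
    have hw1 : w.x1 = 0 := by
      apply tr_nondeg φ
      intro b
      have h := (hwc' _ (hz3 (u3_mem b))).2.2.2.2
      rw [comm_x2' (u3_mem b)] at h
      exact h
    have hw6 : w.x6 = 0 := by
      have h := (hwc' e he).2.2.1
      rw [comm_x5, hw1, smul_zero, zero_sub, neg_eq_zero, smul_eq_zero] at h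
      exact h.resolve_right he1
    have hw4 : w ∈ Z4 φ := ⟨hw1, hw6⟩
    have hy := hwc y (γ g).2
    have hy3 := hy.2.2.2.1
    rw [comm_x3 hw4] at hy3
    obtain ⟨β, hβ⟩ := cr_eq_zero_two φ h2K hy1 hy3
    have hy2 := hy.2.2.2.2
    rw [comm_x2 hw4, hβ, mul_smul_comm, tr_smul, tr_sh_mul] at hy2
    have hx := (hwc x hx).2.2.2.2
    rw [comm_x2 hw4, hβ, hs, sh_smul, smul_mul_assoc, smul_mul_assoc, mul_smul_comm, tr_smul, tr_smul, tr_smul,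
      tr_sh_mul] at hx
    have h3 : (s ^ 2 - s) * (β * (3 * nm φ y.x1)) = 0 := by
      linear_combination hx - s * hy2
    have h4 : (3 : F) ≠ 0 := by
      have : (3 : F) = 1 := by linear_combination h2F
      rw [this]; exact one_ne_zero
    have h5 : nm φ y.x1 ≠ 0 := fun h => hy1 ((nm_eq_zero φ).1 h)
    have h6 : s ^ 2 - s ≠ 0 := by
      intro h
      have : s * (s - 1) = 0 := by linear_combination h
      rcases mul_eq_zero.1 this with h | h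
      · exact hs0 h
      · exact hs1 (sub_eq_zero.1 h)
    have h7 : β = 0 := by
      rcases mul_eq_zero.1 h3 with h | h
      · exact absurd h h6
      · rcases mul_eq_zero.1 h with h | h
        · exact h
        · exact absurd h (mul_ne_zero h4 h5)
    rw [hβ, h7, zero_smul]
  -- `[y, e] = γ [g, γ⁻¹ e]`
  set e0 : E := ⟨e, he⟩ with he0
  have hc : ⁅γ g, e0⁆ = γ ⁅g, γ⁻¹ e0⁆ := by
    rw [map_commutatorElement, MulAut.apply_inv_self]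
  have hc2 : ((⁅g, γ⁻¹ e0⁆ : E) : Sy φ) ∈ Z2 φ := by
    have h1 : ((⁅g, γ⁻¹ e0⁆ : E) : Sy φ) = ⁅(g : Sy φ), ((γ⁻¹ e0 : E) : Sy φ)⁆ := by
      simp only [commutatorElement_def, Subgroup.coe_mul, Subgroup.coe_inv]
    rw [h1, ← commutatorElement_inv]
    exact (Z2 φ).inv_mem (comm_mem_Z2 hg)
  have hc3 : ∀ e' ∈ E, ⁅e', ((γ ⁅g, γ⁻¹ e0⁆ : E) : Sy φ)⁆ ∈ Z1 φ := by
    intro e' he'
    have h1 : ∀ c : E, ⁅e', ((γ c : E) : Sy φ)⁆ = ((γ ⁅γ⁻¹ ⟨e', he'⟩, c⁆ : E) : Sy φ) := fun c => by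
      rw [map_commutatorElement, MulAut.apply_inv_self]
      rfl
    rw [h1]
    refine hinv.2 γ hγ _ ?_
    have h2 : ((⁅γ⁻¹ ⟨e', he'⟩, ⁅g, γ⁻¹ e0⁆⁆ : E) : Sy φ) =
        ⁅((γ⁻¹ ⟨e', he'⟩ : E) : Sy φ), ((⁅g, γ⁻¹ e0⁆ : E) : Sy φ)⁆ := by
      simp only [commutatorElement_def, Subgroup.coe_mul, Subgroup.coe_inv]
    rw [h2, comm_Z2 hc2]
    exact u4_mem _
  have hc4 := hZ2 _ (γ ⁅g, γ⁻¹ e0⁆).2 hc3
  rw [← hc] at hc4
  have hc5 : ((⁅γ g, e0⁆ : E) : Sy φ) = ⁅y, e⁆ := rfl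
  rw [hc5, comm_x5, hy6, zero_smul, sub_zero, smul_eq_zero] at hc4
  rcases hc4 with h | h
  · exact he6 h
  · exact hy1 h

theorem stM3b_eng (e : Eng.{u}) (m3a : StM3a.{u}) : StM3b.{u} := stM3b e.phi e.cm m3a

theorem stM3c_eng (e : Eng.{u}) (m3a : StM3a.{u}) : StM3c.{u} := stM3c e.hull m3a (stM3b_eng e m3a)

end Cfsg.Agent.H752.TE
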